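import Mathlib.Data.List.Basic
import Cfsg.Agent.Lib.HeUnique.Stab.CodeData

/-!
Ten bit codes for the upper unitriangular group of `SL(5,2)` and the certificate that lists its
2-subgroups free of bad elements.
-/

set_option autoImplicit false
set_option maxRecDepth 100000

namespace CfsgLib.HeUnique.Stab

/-- A bit. -/
def bitN (n k : ℕ) : ℕ := (n >>> k) &&& 1

/-- The product of two codes. -/
def mulU (a b : ℕ) : ℕ :=
  (bitN a 0 ^^^ bitN b 0 ^^^ (bitN a 1 &&& bitN b 4) ^^^ (bitN a 2 &&& bitN b 7) ^^^
      (bitN a 3 &&& bitN b 9)) +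
    2 * (bitN a 1 ^^^ bitN b 1) +
    4 * (bitN a 2 ^^^ bitN b 2 ^^^ (bitN a 1 &&& bitN b 5)) +
    8 * (bitN a 3 ^^^ bitN b 3 ^^^ (bitN a 1 &&& bitN b 6) ^^^ (bitN a 2 &&& bitN b 8)) +
    16 * (bitN a 4 ^^^ bitN b 4 ^^^ (bitN a 5 &&& bitN b 7) ^^^ (bitN a 6 &&& bitN b 9)) +
    32 * (bitN a 5 ^^^ bitN b 5) +
    64 * (bitN a 6 ^^^ bitN b 6 ^^^ (bitN a 5 &&& bitN b 8)) +
    128 * (bitN a 7 ^^^ bitN b 7 ^^^ (bitN a 8 &&& bitN b 9)) +
    256 * (bitN a 8 ^^^ bitN b 8) + 512 * (bitN a 9 ^^^ bitN b 9)

/-- The commutator of an involution with one of the sixteen transvections. -/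
def comU (a n : ℕ) : ℕ := mulU (mulU a n) (mulU a n)

/-- An involution whose commutators with the sixteen transvections take at most one non-trivial value. -/
def badC (n : ℕ) : Bool :=
  !Nat.beq n 0 && Nat.beq (mulU n n) 0 &&
    ((List.range 16).any fun v => (List.range 16).all fun a =>
      Nat.beq (comU a n) 0 || Nat.beq (comU a n) v)

/-- Membership in a list of codes. -/
def memC (n : ℕ) (T : List ℕ) : Bool := T.any (Nat.beq n)

/-- The bit mask of a list of codes. -/
def maskC (T : List ℕ) : ℕ := T.foldr (fun t m => (1 <<< t) ||| m) 0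

/-- The set of the list is normalised by the element. -/
def normC (T : List ℕ) (s : ℕ) : Bool := T.all fun t => T.any fun t' => Nat.beq (mulU t' s) (mulU s t)

/-- The extension by `s` of an entry is in the list, or has a bad element. -/
def extOK (T : List ℕ) (s : ℕ) : Bool :=
  memC s T || !memC (mulU s s) T || !normC T s || (T.any fun t => badC (mulU t s)) ||
    (certMasks.any (Nat.beq (maskC (T ++ T.map fun t => mulU t s))))

/-- The witnesses of an entry. -/
def entryOK (e : List ℕ × ℕ × ℕ) : Bool :=
  Nat.ble 1 e.2.1 && Nat.blt e.2.1 16 && !memC e.2.1 e.1 &&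
    (e.1.all fun t => Nat.beq (mulU e.2.1 t) (mulU t e.2.1)) &&
    Nat.blt e.2.2 1024 && !memC e.2.2 e.1 && memC (mulU e.2.2 e.2.2) e.1 && normC e.1 e.2.2 &&
    (e.1.all fun t => Nat.ble 16 (mulU e.2.2 t))

theorem entries_ok : cert.all entryOK = true := by decide +kernel

theorem masks_ok : cert.map (fun e => maskC e.1) = certMasks := by decide +kernel

theorem one_listed : cert.any (fun e => Nat.beq (maskC e.1) (maskC [0])) = true := by decide +kernel

theorem scan_zero : (cert.take 50).all (fun e => (List.range 1024).all (extOK e.1)) = true := by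
  decide +kernel

theorem scan_one : ((cert.drop 50).take 50).all (fun e => (List.range 1024).all (extOK e.1)) = true := by
  decide +kernel

theorem scan_two : ((cert.drop 100).take 50).all (fun e => (List.range 1024).all (extOK e.1)) = true := by
  decide +kernel

theorem scan_three : (cert.drop 150).all (fun e => (List.range 1024).all (extOK e.1)) = true := by
  decide +kernel

theorem scan {e : List ℕ × ℕ × ℕ} (he : e ∈ cert) {s : ℕ} (hs : s < 1024) : extOK e.1 s = true := by
  have h : e ∈ cert.take 50 ++ ((cert.drop 50).take 50 ++ ((cert.drop 100).take 50 ++ cert.drop 150)) := by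
    have e1 : cert.take 50 ++ ((cert.drop 50).take 50 ++ ((cert.drop 100).take 50 ++ cert.drop 150)) =
        cert := by decide +kernel
    rwa [e1]
  have hs' : s ∈ List.range 1024 := List.mem_range.2 hs
  simp only [List.mem_append] at h
  rcases h with h | h | h | h
  exacts [List.all_eq_true.1 (List.all_eq_true.1 scan_zero e h) s hs',
    List.all_eq_true.1 (List.all_eq_true.1 scan_one e h) s hs',
    List.all_eq_true.1 (List.all_eq_true.1 scan_two e h) s hs',
    List.all_eq_true.1 (List.all_eq_true.1 scan_three e h) s hs']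

end CfsgLib.HeUnique.Stab
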