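import Mathlib.GroupTheory.Sylow
import Mathlib.GroupTheory.Nilpotent
import Cfsg.Agent.Lib.HeUnique.Stab.Scan

/-!
The 2-subgroups of a group with ten bit codes free of bad elements are the listed ones.
-/

set_option autoImplicit false

namespace CfsgLib.HeUnique.Stab

open Subgroup

theorem memC_iff {n : ℕ} {T : List ℕ} : memC n T = true ↔ n ∈ T := by
  simp only [memC, List.any_eq_true]
  exact ⟨fun ⟨t, ht, e⟩ => Nat.eq_of_beq_eq_true e ▸ ht, fun h => ⟨n, h, Nat.beq_refl n⟩⟩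

theorem testBit_maskC (T : List ℕ) (n : ℕ) : (maskC T).testBit n = true ↔ n ∈ T := by
  induction T with
  | nil => simp [maskC]
  | cons t T ih =>
    rw [show maskC (t :: T) = (1 <<< t) ||| maskC T from rfl, Nat.testBit_or, Bool.or_eq_true, ih,
      Nat.one_shiftLeft, Nat.testBit_two_pow, List.mem_cons]
    simp [eq_comm]

theorem mem_iff_of_mask {T T' : List ℕ} (h : maskC T = maskC T') (n : ℕ) : n ∈ T ↔ n ∈ T' := by
  rw [← testBit_maskC, h, testBit_maskC]

/-- The subgroup with one element adjoined. -/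
def adjoin {Γ : Type*} [Group Γ] (K : Subgroup Γ) (s : Γ) (hs : s ∈ normalizer (K : Set Γ))
    (hs2 : s * s ∈ K) : Subgroup Γ where
  carrier := {x | x ∈ K ∨ x * s⁻¹ ∈ K}
  one_mem' := Or.inl (one_mem K)
  mul_mem' := by
    rintro x y (hx | hx) (hy | hy)
    · exact Or.inl (mul_mem hx hy)
    · exact Or.inr (by rw [mul_assoc]; exact mul_mem hx hy)
    · refine Or.inr ?_
      rw [show x * y * s⁻¹ = x * s⁻¹ * (s * y * s⁻¹) by group]
      exact mul_mem hx ((mem_normalizer_iff.1 hs y).1 hy)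
    · refine Or.inl ?_
      rw [show x * y = x * s⁻¹ * (s * (y * s⁻¹) * s⁻¹) * (s * s) by group]
      exact mul_mem (mul_mem hx ((mem_normalizer_iff.1 hs _).1 hy)) hs2
  inv_mem' := by
    rintro x (hx | hx)
    · exact Or.inl (inv_mem hx)
    · refine Or.inr ?_
      rw [show x⁻¹ * s⁻¹ = s⁻¹ * (x * s⁻¹)⁻¹ * s * (s * s)⁻¹ by group]
      exact mul_mem ((mem_normalizer_iff''.1 hs _).1 (inv_mem hx)) (inv_mem hs2)

/-- Every 2-subgroup free of bad elements is listed. -/
theorem exists_entry {Γ : Type*} [Group Γ] [Finite Γ] (code : Γ → ℕ) (hinj : Function.Injective code)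
    (hlt : ∀ g, code g < 1024) (hone : code 1 = 0) (hmul : ∀ g h, code (g * h) = mulU (code g) (code h))
    (T : Subgroup Γ) (hT : IsPGroup 2 T) (hgood : ∀ t ∈ T, badC (code t) = false) :
    ∃ e ∈ cert, ∀ g, g ∈ T ↔ code g ∈ e.1 := by
  have : Fact (Nat.Prime 2) := ⟨Nat.prime_two⟩
  let Listed : Subgroup Γ → Prop := fun K => K ≤ T ∧ ∃ e ∈ cert, (∀ g, g ∈ K ↔ code g ∈ e.1) ∧
    ∀ n ∈ e.1, ∃ g, code g = n
  have hbot : Listed ⊥ := by
    obtain ⟨e, he, hm⟩ := List.any_eq_true.1 one_listed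
    have hmem := mem_iff_of_mask (Nat.eq_of_beq_eq_true hm)
    refine ⟨bot_le, e, he, fun g => ?_, fun n hn => ⟨1, ?_⟩⟩
    · rw [hmem, List.mem_singleton, mem_bot, ← hone]
      exact hinj.eq_iff.symm
    · rw [hone]
      exact (List.mem_singleton.1 ((hmem n).1 hn)).symm
  have : Finite (Subgroup Γ) := Finite.of_injective (fun K => (K : Set Γ)) SetLike.coe_injective
  obtain ⟨K, hK, hmax⟩ := (Set.toFinite {K : Subgroup Γ | Listed K}).exists_maximalFor
    (fun K : Subgroup Γ => Nat.card K) _ ⟨⊥, hbot⟩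
  obtain ⟨hKT, e, he, heK, hecode⟩ := hK
  rcases hKT.eq_or_lt with rfl | hlt'
  · exact ⟨e, he, heK⟩
  exfalso
  -- an element squaring into `K` and normalising it
  let K' := K.subgroupOf T
  have hnil : Group.IsNilpotent T := hT.isNilpotent
  have hK' : K' < ⊤ := lt_top_iff_ne_top.2 fun h => hlt'.not_ge (subgroupOf_eq_top.1 h)
  have hnorm := normalizerCondition_of_isNilpotent (G := T) K' hK'
  let N := normalizer (K' : Set T)
  have hKN : K'.subgroupOf N ≠ ⊤ := fun h => hnorm.not_ge (subgroupOf_eq_top.1 h)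
  have hn : (K'.subgroupOf N).Normal := normal_in_normalizer
  have hQ : IsPGroup 2 (N ⧸ K'.subgroupOf N) := (hT.to_subgroup N).to_quotient _
  have hQn : Nontrivial (N ⧸ K'.subgroupOf N) := QuotientGroup.nontrivial_iff.2 hKN
  obtain ⟨m, hm0, hm⟩ := hQ.nontrivial_iff_card.1 hQn
  obtain ⟨x, hx⟩ := exists_prime_orderOf_dvd_card' (G := N ⧸ K'.subgroupOf N) 2
    (by rw [hm]; exact dvd_pow_self 2 hm0.ne')
  obtain ⟨⟨⟨s, hsT⟩, hsN⟩, rfl⟩ := QuotientGroup.mk'_surjective _ x
  have hsK : s ∉ K := fun h => by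
    rw [orderOf_eq_prime_iff, show QuotientGroup.mk' (K'.subgroupOf N) ⟨⟨s, hsT⟩, hsN⟩ = 1 from
      (QuotientGroup.eq_one_iff _).2 h] at hx
    exact hx.2 rfl
  have hs2 : s * s ∈ K := by
    have h1 := pow_orderOf_eq_one (QuotientGroup.mk' (K'.subgroupOf N) ⟨⟨s, hsT⟩, hsN⟩)
    rw [hx, pow_two, ← map_mul, QuotientGroup.mk'_apply, QuotientGroup.eq_one_iff] at h1
    exact h1
  have hsn : s ∈ normalizer (K : Set Γ) := by
    rw [mem_normalizer_iff_map_conj_eq]
    refine eq_of_le_of_card_ge ?_ (le_of_eq (Nat.card_congr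
      (K.equivMapOfInjective _ (MulAut.conj s).injective).toEquiv))
    rintro _ ⟨t, ht, rfl⟩
    exact (mem_normalizer_iff.1 hsN ⟨t, hKT ht⟩).1 ht
  -- the check
  have hsc := scan he (hlt s)
  simp only [extOK, Bool.or_eq_true, Bool.not_eq_true'] at hsc
  have h1 : memC (code s) e.1 ≠ true := fun h => hsK ((heK s).2 (memC_iff.1 h))
  have h2 : memC (mulU (code s) (code s)) e.1 = true := memC_iff.2 (hmul s s ▸ (heK _).1 hs2)
  have h3 : normC e.1 (code s) = true := List.all_eq_true.2 fun n hn => by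
    obtain ⟨t, rfl⟩ := hecode n hn
    refine List.any_eq_true.2 ⟨code (s * t * s⁻¹),
      (heK _).1 ((mem_normalizer_iff.1 hsn t).1 ((heK t).2 hn)), ?_⟩
    rw [← hmul, ← hmul, inv_mul_cancel_right]
    exact Nat.beq_refl _
  rcases hsc with (((h | h) | h) | h) | h
  · exact h1 h
  · rw [h2] at h; exact Bool.noConfusion h
  · rw [h3] at h; exact Bool.noConfusion h
  · obtain ⟨n, hn, hb⟩ := List.any_eq_true.1 h
    obtain ⟨t, rfl⟩ := hecode n hn
    rw [← hmul, hgood _ (mul_mem (hKT ((heK t).2 hn)) hsT)] at hb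
    exact Bool.noConfusion hb
  · obtain ⟨M, hM, hb⟩ := List.any_eq_true.1 h
    rw [← masks_ok, List.mem_map] at hM
    obtain ⟨e', he', rfl⟩ := hM
    have hmem := mem_iff_of_mask (Nat.eq_of_beq_eq_true hb).symm
    let L := adjoin K s hsn hs2
    have hL : Listed L := by
      refine ⟨?_, e', he', fun g => ?_, fun n hn => ?_⟩
      · rintro g (hg | hg)
        · exact hKT hg
        · rw [← inv_mul_cancel_right g s]; exact mul_mem (hKT hg) hsT
      · show (g ∈ K ∨ g * s⁻¹ ∈ K) ↔ _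
        rw [hmem, List.mem_append, List.mem_map, heK g]
        refine or_congr Iff.rfl ⟨fun hg => ⟨_, (heK _).1 hg, by rw [← hmul, inv_mul_cancel_right]⟩, ?_⟩
        rintro ⟨n, hn, hg⟩
        obtain ⟨t, rfl⟩ := hecode n hn
        rw [← hmul] at hg
        rw [← hinj hg, mul_inv_cancel_right]
        exact (heK t).2 hn
      · rw [hmem, List.mem_append, List.mem_map] at hn
        rcases hn with hn | ⟨m, hm, rfl⟩
        · exact hecode n hn
        · obtain ⟨t, rfl⟩ := hecode m hm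
          exact ⟨t * s, hmul t s⟩
    have hKL : K ≤ L := fun g hg => Or.inl hg
    have hcard := hmax (j := L) hL (Subgroup.card_le_of_le hKL)
    exact hsK (eq_of_le_of_card_ge hKL hcard ▸ (Or.inr (by simp) : s ∈ L))

end CfsgLib.HeUnique.Stab
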