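import Cfsg.Agent.S1717
import Cfsg.Agent.Lib.HeUnique.C0.Defs
import Cfsg.Agent.Lib.HeUnique.Stab.Code

/-!
The stabiliser of a vector in `SL(5,2)` as the normaliser of the sixteen transvections with centre that
vector, with a complement and a Sylow 2-subgroup by codes.
-/

set_option autoImplicit false
set_option maxRecDepth 100000

namespace CfsgLib.HeUnique.Stab

open Subgroup Matrix
open Cfsg.Agent.S1717 (SL5 M5 U uEquiv)

/-- The vector. -/
def e0 : Fin 5 → ZMod 2 := Pi.single 0 1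

/-- Its stabiliser. -/
abbrev X : Subgroup SLFive := MulAction.stabilizer SLFive e0

theorem zmod2_cases (x : ZMod 2) : x = 0 ∨ x = 1 := by revert x; decide

theorem mem_X {g : SLFive} : g ∈ X ↔ ∀ i : Fin 5, i ≠ 0 → (g : M5) i 0 = 0 := by
  have h : ∀ i, ((g : M5) *ᵥ e0) i = (g : M5) i 0 := fun i => by simp [e0, Matrix.mulVec_single_one]
  rw [MulAction.mem_stabilizer_iff]
  constructor
  · intro hg i hi
    rw [← h, show (g : M5) *ᵥ e0 = e0 from hg]
    simp [e0, hi]
  · intro hg
    show (g : M5) *ᵥ e0 = e0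
    funext i
    rw [h]
    by_cases hi : i = 0
    · subst hi
      rcases zmod2_cases ((g : M5) 0 0) with e | e
      · exfalso
        have hd := g.det_coe
        rw [Matrix.det_eq_zero_of_column_eq_zero 0 fun i => ?_] at hd
        · exact zero_ne_one hd
        · by_cases hi : i = 0
          exacts [hi ▸ e, hg i hi]
      · simp [e0, e]
    · simp [e0, hi, hg i hi]

theorem row_mul {a b : SLFive} {i : Fin 5} (h : ∀ j, (a : M5) i j = (1 : M5) i j) (j : Fin 5) :
    ((a * b : SLFive) : M5) i j = (b : M5) i j := by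
  rw [Matrix.SpecialLinearGroup.coe_mul, Matrix.mul_apply]
  simp [h, Matrix.one_apply]

/-- The transvections with centre `e0`. -/
def A0 : Subgroup SLFive where
  carrier := {g | ∀ i j : Fin 5, i ≠ 0 → (g : M5) i j = (1 : M5) i j}
  one_mem' := fun i j _ => by simp
  mul_mem' := fun {a b} ha hb i j hi => by rw [row_mul (fun j => ha i j hi), hb i j hi]
  inv_mem' := fun {a} ha i j hi => by
    rw [← row_mul (b := a⁻¹) (fun j => ha i j hi) j, mul_inv_cancel]
    rfl

theorem mem_A0 {g : SLFive} : g ∈ A0 ↔ ∀ i j : Fin 5, i ≠ 0 → (g : M5) i j = (1 : M5) i j := Iff.rfl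

theorem A0_le_U : A0 ≤ U := by
  intro g hg
  have hX : g ∈ X := mem_X.2 fun i hi => by rw [hg i 0 hi]; simp [hi]
  have h00 : (g : M5) 0 0 = 1 := by
    have h := congrFun (show (g : M5) *ᵥ e0 = e0 from hX) 0
    simpa [e0, Matrix.mulVec_single_one] using h
  refine ⟨fun i j hij => ?_, fun i => ?_⟩
  · by_cases hi : i = 0
    · subst hi; simp [Cfsg.Agent.S1717.pos] at hij
    · rw [hg i j hi, Matrix.one_apply_ne]
      rintro rfl
      exact lt_irrefl _ hij
  · by_cases hi : i = 0
    · rw [hi, h00]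
    · rw [hg i i hi, Matrix.one_apply_eq]

theorem U_le_centralizer : U ≤ centralizer ({sEl} : Set SLFive) := Cfsg.Agent.S1717.U_le sEl rfl

theorem coe_sEl : (sEl : M5) = Matrix.transvection 0 1 1 := rfl

theorem centralizer_le_X : centralizer ({sEl} : Set SLFive) ≤ X := by
  intro g hg
  refine mem_X.2 fun i hi => ?_
  have h := congrArg (fun h : SLFive => (h : M5) i 1) (mem_centralizer_singleton_iff.1 hg)
  simp only [Matrix.SpecialLinearGroup.coe_mul, coe_sEl, Matrix.mul_transvection_apply_same,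
    Matrix.transvection_mul_apply_of_ne _ _ _ _ hi, one_mul] at h
  linear_combination h

theorem A0_le_X : A0 ≤ X := A0_le_U.trans (U_le_centralizer.trans centralizer_le_X)

theorem sEl_mem_A0 : sEl ∈ A0 := fun i j hi => by
  simp [sEl, Matrix.transvection, hi.symm]

theorem conj_mem_A0 {g : SLFive} (hg : g ∈ X) {a : SLFive} (ha : a ∈ A0) : g * a * g⁻¹ ∈ A0 := by
  intro i j hi
  have h1 : ∀ k, ((g * a : SLFive) : M5) i k = (g : M5) i k := fun k => by
    rw [Matrix.SpecialLinearGroup.coe_mul, Matrix.mul_apply]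
    rw [Finset.sum_eq_single k]
    · by_cases hk : k = 0
      · rw [hk, mem_X.1 hg i hi, zero_mul]
      · rw [ha k k hk, Matrix.one_apply_eq, mul_one]
    · intro l _ hl
      by_cases hl0 : l = 0
      · rw [hl0, mem_X.1 hg i hi, zero_mul]
      · rw [ha l k hl0, Matrix.one_apply_ne hl, mul_zero]
    · simp
  rw [Matrix.SpecialLinearGroup.coe_mul, Matrix.mul_apply]
  simp only [h1]
  rw [← Matrix.mul_apply, ← Matrix.SpecialLinearGroup.coe_mul, mul_inv_cancel]
  rfl

theorem normalizer_A0 : normalizer (A0 : Set SLFive) = X := by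
  refine le_antisymm (fun g hg => mem_X.2 fun i hi => ?_) fun g hg => mem_normalizer_iff.2 fun a =>
    ⟨fun ha => conj_mem_A0 hg ha, fun ha => ?_⟩
  · have ha := (mem_normalizer_iff.1 hg sEl).1 sEl_mem_A0
    have h2 := row_mul (b := g) (fun j => ha i j hi) 1
    rw [inv_mul_cancel_right] at h2
    simp only [Matrix.SpecialLinearGroup.coe_mul, coe_sEl, Matrix.mul_transvection_apply_same,
      one_mul] at h2
    linear_combination h2
  · have := conj_mem_A0 (inv_mem hg) ha
    rwa [inv_inv, ← mul_assoc, ← mul_assoc, inv_mul_cancel, one_mul, inv_mul_cancel_right] at this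

/-! ### Elements of `A0` -/

/-- The transvection with given row. -/
def rowEl (v : Fin 4 → ZMod 2) : SLFive :=
  ⟨Cfsg.Agent.S1717.mk ![v 0, v 1, v 2, v 3, 0, 0, 0, 0, 0, 0], Cfsg.Agent.S1717.det_uni (Cfsg.Agent.S1717.mk_uni _)⟩

theorem rowEl_mem (v : Fin 4 → ZMod 2) : rowEl v ∈ A0 := fun i j hi => by
  fin_cases i <;> fin_cases j <;> simp [rowEl, Cfsg.Agent.S1717.mk] at hi ⊢

theorem rowEl_zero_row (v : Fin 4 → ZMod 2) (j : Fin 5) :
    (rowEl v : M5) 0 j = ![1, v 0, v 1, v 2, v 3] j := by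
  fin_cases j <;> simp [rowEl, Cfsg.Agent.S1717.mk]

theorem eq_rowEl {g : SLFive} (hg : g ∈ A0) :
    g = rowEl ![(g : M5) 0 1, (g : M5) 0 2, (g : M5) 0 3, (g : M5) 0 4] := by
  apply Subtype.ext
  ext i j
  by_cases hi : i = 0
  · subst hi
    rw [rowEl_zero_row]
    have h00 := (A0_le_U hg).2 0
    fin_cases j <;> simp [h00]
  · rw [hg i j hi, rowEl_mem _ i j hi]

theorem card_A0 : Nat.card A0 = 16 := by
  rw [← Nat.card_eq_of_bijective (fun v => (⟨rowEl v, rowEl_mem v⟩ : A0)) ⟨fun v w h => ?_, fun g => ?_⟩]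
  · simp
  · have h' := fun j => congrArg (fun g : A0 => ((g : SLFive) : M5) 0 j) h
    simp only [rowEl_zero_row] at h'
    funext k
    fin_cases k
    exacts [h' 1, h' 2, h' 3, h' 4]
  · exact ⟨_, Subtype.ext (eq_rowEl g.2).symm⟩

theorem sq_A0 : ∀ a ∈ A0, a * a = 1 := by
  intro a ha
  apply Subtype.ext
  ext i j
  by_cases hi : i = 0
  · subst hi
    have h00 := (A0_le_U ha).2 0
    rw [Matrix.SpecialLinearGroup.coe_mul, Matrix.mul_apply, Fin.sum_univ_five]
    rw [ha 1 j (by decide), ha 2 j (by decide), ha 3 j (by decide), ha 4 j (by decide), h00]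
    fin_cases j <;> simp [h00, Matrix.one_apply] <;> exact CharTwo.add_self_eq_zero _
  · rw [row_mul (fun k => ha i k hi), ha i j hi]
    simp

theorem comm_A0 : ∀ a ∈ A0, ∀ b ∈ A0, a * b = b * a := fun a ha b hb => by
  have h := sq_A0 _ (mul_mem ha hb)
  calc a * b = a * (a * b * (a * b)) * b := by rw [h, mul_one]
    _ = a * a * (b * a) * (b * b) := by group
    _ = b * a := by rw [sq_A0 a ha, sq_A0 b hb, one_mul, mul_one]

theorem centralizer_A0 : centralizer (A0 : Set SLFive) = A0 := by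
  refine le_antisymm (fun g hg => ?_) fun a ha => mem_centralizer_iff.2 fun b hb => comm_A0 b hb a ha
  have hX : g ∈ X := centralizer_le_X (centralizer_le (Set.singleton_subset_iff.2 sEl_mem_A0) hg)
  have h00 : (g : M5) 0 0 = 1 := by
    have h := congrFun (show (g : M5) *ᵥ e0 = e0 from hX) 0
    simpa [e0, Matrix.mulVec_single_one] using h
  intro i j hi
  by_cases hj : j = 0
  · rw [hj, mem_X.1 hX i hi, Matrix.one_apply_ne hi]
  obtain ⟨k, rfl⟩ := Fin.exists_succ_eq.2 hi
  have h := congrArg (fun h : SLFive => (h : M5) 0 j)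
    (mem_centralizer_iff.1 hg (rowEl (Pi.single k 1)) (rowEl_mem _))
  simp only [Matrix.SpecialLinearGroup.coe_mul, Matrix.mul_apply, Fin.sum_univ_five, h00] at h
  fin_cases k <;> fin_cases j <;> simp [rowEl, Cfsg.Agent.S1717.mk, h00, Matrix.one_apply] at h hj ⊢ <;>
    linear_combination h

/-- The complement. -/
def K0 : Subgroup SLFive where
  carrier := {g | g ∈ X ∧ ∀ j : Fin 5, j ≠ 0 → (g : M5) 0 j = 0}
  one_mem' := ⟨one_mem _, fun j hj => by simp [hj.symm]⟩
  mul_mem' := fun {a b} ha hb => ⟨mul_mem ha.1 hb.1, fun j hj => by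
    rw [Matrix.SpecialLinearGroup.coe_mul, Matrix.mul_apply, Finset.sum_eq_zero]
    intro l _
    by_cases hl : l = 0
    · rw [hl, hb.2 j hj, mul_zero]
    · rw [ha.2 l hl, zero_mul]⟩
  inv_mem' := fun {a} ha => ⟨inv_mem ha.1, fun j hj => by
    have h00 : (a : M5) 0 0 = 1 := by
      have h := congrFun (show (a : M5) *ᵥ e0 = e0 from ha.1) 0
      simpa [e0, Matrix.mulVec_single_one] using h
    have h := congrArg (fun h : SLFive => (h : M5) 0 j) (mul_inv_cancel a)
    simp only [Matrix.SpecialLinearGroup.coe_mul, Matrix.mul_apply, Fin.sum_univ_five, h00,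
      ha.2 1 (by decide), ha.2 2 (by decide), ha.2 3 (by decide), ha.2 4 (by decide)] at h
    simpa [hj.symm] using h⟩

theorem mem_K0 {g : SLFive} : g ∈ K0 ↔ g ∈ X ∧ ∀ j : Fin 5, j ≠ 0 → (g : M5) 0 j = 0 := Iff.rfl

theorem A0_inf_K0 : A0 ⊓ K0 = ⊥ := by
  refine (eq_bot_iff_forall _).2 fun g ⟨hA, hK⟩ => ?_
  rw [eq_rowEl hA, hK.2 1 (by decide), hK.2 2 (by decide), hK.2 3 (by decide), hK.2 4 (by decide)]
  apply Subtype.ext
  ext i j
  fin_cases i <;> fin_cases j <;> simp [rowEl, Cfsg.Agent.S1717.mk]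

/-- Every element of the stabiliser is a transvection times an element of the complement. -/
theorem exists_mul_K0 {g : SLFive} (hg : g ∈ X) : ∃ a ∈ A0, a * g ∈ K0 := by
  let r : Fin 5 → ZMod 2 := fun j => ((g⁻¹ : SLFive) : M5) 0 j
  have hr0 : r 0 = 1 := by
    have h := congrFun (show ((g⁻¹ : SLFive) : M5) *ᵥ e0 = e0 from inv_mem hg) 0
    simpa [e0, r, Matrix.mulVec_single_one] using h
  refine ⟨rowEl fun k => r k.succ, rowEl_mem _,
    ⟨mul_mem (A0_le_X (rowEl_mem _)) hg, fun j hj => ?_⟩⟩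
  have hrow : ∀ l, (rowEl (fun k => r k.succ) : M5) 0 l = r l := fun l => by
    rw [rowEl_zero_row]
    fin_cases l <;> simp [hr0]
  rw [Matrix.SpecialLinearGroup.coe_mul, Matrix.mul_apply]
  simp only [hrow, r]
  rw [← Matrix.mul_apply, ← Matrix.SpecialLinearGroup.coe_mul, inv_mul_cancel]
  simp [hj.symm]

/-! ### The Sylow subgroup by codes -/

/-- The code of coordinates. -/
def encV (v : Fin 10 → ZMod 2) : ℕ :=
  (v 0).val + 2 * (v 1).val + 4 * (v 2).val + 8 * (v 3).val + 16 * (v 4).val + 32 * (v 5).val +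
    64 * (v 6).val + 128 * (v 7).val + 256 * (v 8).val + 512 * (v 9).val

theorem encV_lt (v : Fin 10 → ZMod 2) : encV v < 1024 := by
  have h : ∀ x : ZMod 2, x.val < 2 := fun x => x.val_lt
  have := h (v 0); have := h (v 1); have := h (v 2); have := h (v 3); have := h (v 4)
  have := h (v 5); have := h (v 6); have := h (v 7); have := h (v 8); have := h (v 9)
  unfold encV
  omega

theorem bitN_encV (v : Fin 10 → ZMod 2) (k : Fin 10) : bitN (encV v) k = (v k).val := by
  have h2 : ∀ x : ZMod 2, x.val < 2 := fun x => x.val_lt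
  have := h2 (v 0); have := h2 (v 1); have := h2 (v 2); have := h2 (v 3); have := h2 (v 4)
  have := h2 (v 5); have := h2 (v 6); have := h2 (v 7); have := h2 (v 8); have := h2 (v 9)
  rw [bitN, Nat.shiftRight_eq_div_pow, Nat.and_one_is_mod]
  unfold encV
  fin_cases k <;> simp <;> omega

theorem encV_injective : Function.Injective encV := fun v w h => by
  funext k
  exact ZMod.val_injective 2 (by rw [← bitN_encV v k, ← bitN_encV w k, h])

theorem val_add2 : ∀ a b : ZMod 2, (a + b).val = a.val ^^^ b.val := by decide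
theorem val_mul2 : ∀ a b : ZMod 2, (a * b).val = a.val &&& b.val := by decide

/-- The code of an element of the Sylow subgroup. -/
def codeU (g : U) : ℕ := encV (uEquiv g)

theorem codeU_injective : Function.Injective codeU := encV_injective.comp uEquiv.injective

theorem codeU_lt (g : U) : codeU g < 1024 := encV_lt _

theorem codeU_one : codeU 1 = 0 := by
  simp [codeU, uEquiv, encV, Cfsg.Agent.S1717.read]

theorem codeU_mul (g h : U) : codeU (g * h) = mulU (codeU g) (codeU h) := by
  obtain ⟨v, rfl⟩ := uEquiv.symm.surjective g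
  obtain ⟨w, rfl⟩ := uEquiv.symm.surjective h
  have e : uEquiv (uEquiv.symm v * uEquiv.symm w) =
      ![v 0 + w 0 + v 1 * w 4 + v 2 * w 7 + v 3 * w 9, v 1 + w 1, v 2 + w 2 + v 1 * w 5,
        v 3 + w 3 + v 1 * w 6 + v 2 * w 8, v 4 + w 4 + v 5 * w 7 + v 6 * w 9, v 5 + w 5,
        v 6 + w 6 + v 5 * w 8, v 7 + w 7 + v 8 * w 9, v 8 + w 8, v 9 + w 9] := by
    rw [show uEquiv (uEquiv.symm v * uEquiv.symm w) =
      Cfsg.Agent.S1717.read (Cfsg.Agent.S1717.mk v * Cfsg.Agent.S1717.mk w) from rfl]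
    funext k
    fin_cases k <;>
      simp [Cfsg.Agent.S1717.mk, Cfsg.Agent.S1717.read, Matrix.mul_apply, Fin.sum_univ_five] <;> ring
  simp only [codeU, e, Equiv.apply_symm_apply]
  rw [mulU]
  have v0 : bitN (encV v) 0 = (v 0).val := bitN_encV v 0
  have v1 : bitN (encV v) 1 = (v 1).val := bitN_encV v 1
  have v2 : bitN (encV v) 2 = (v 2).val := bitN_encV v 2
  have v3 : bitN (encV v) 3 = (v 3).val := bitN_encV v 3
  have v4 : bitN (encV v) 4 = (v 4).val := bitN_encV v 4
  have v5 : bitN (encV v) 5 = (v 5).val := bitN_encV v 5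
  have v6 : bitN (encV v) 6 = (v 6).val := bitN_encV v 6
  have v7 : bitN (encV v) 7 = (v 7).val := bitN_encV v 7
  have v8 : bitN (encV v) 8 = (v 8).val := bitN_encV v 8
  have v9 : bitN (encV v) 9 = (v 9).val := bitN_encV v 9
  have w0 : bitN (encV w) 0 = (w 0).val := bitN_encV w 0
  have w1 : bitN (encV w) 1 = (w 1).val := bitN_encV w 1
  have w2 : bitN (encV w) 2 = (w 2).val := bitN_encV w 2
  have w3 : bitN (encV w) 3 = (w 3).val := bitN_encV w 3
  have w4 : bitN (encV w) 4 = (w 4).val := bitN_encV w 4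
  have w5 : bitN (encV w) 5 = (w 5).val := bitN_encV w 5
  have w6 : bitN (encV w) 6 = (w 6).val := bitN_encV w 6
  have w7 : bitN (encV w) 7 = (w 7).val := bitN_encV w 7
  have w8 : bitN (encV w) 8 = (w 8).val := bitN_encV w 8
  have w9 : bitN (encV w) 9 = (w 9).val := bitN_encV w 9
  rw [v0, v1, v2, v3, v4, v5, v6, v7, v8, v9, w0, w1, w2, w3, w4, w5, w6, w7, w8, w9]
  simp [encV, val_add2, val_mul2]

/-- The elements of `A0` have the codes below sixteen. -/
theorem mem_A0_iff_code (g : U) : (g : SLFive) ∈ A0 ↔ codeU g < 16 := by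
  obtain ⟨v, rfl⟩ := uEquiv.symm.surjective g
  rw [codeU, Equiv.apply_symm_apply]
  constructor
  · intro h
    have h4 := h 2 1 (by decide); have h5 := h 2 3 (by decide); have h6 := h 2 4 (by decide)
    have h7 := h 3 1 (by decide); have h8 := h 3 4 (by decide); have h9 := h 4 1 (by decide)
    simp [uEquiv, Cfsg.Agent.S1717.mk] at h4 h5 h6 h7 h8 h9
    have h2 : ∀ x : ZMod 2, x.val < 2 := fun x => x.val_lt
    have := h2 (v 0); have := h2 (v 1); have := h2 (v 2); have := h2 (v 3)
    simp only [encV, h4, h5, h6, h7, h8, h9, ZMod.val_zero]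
    omega
  · intro h
    unfold encV at h
    have h0 : ∀ k : Fin 10, (v k).val = 0 → v k = 0 := fun k hk => ZMod.val_injective 2 (by simpa using hk)
    have e4 := h0 4 (by omega); have e5 := h0 5 (by omega); have e6 := h0 6 (by omega)
    have e7 := h0 7 (by omega); have e8 := h0 8 (by omega); have e9 := h0 9 (by omega)
    intro i j hi
    fin_cases i <;> fin_cases j <;> simp [uEquiv, Cfsg.Agent.S1717.mk, e4, e5, e6, e7, e8, e9] at hi ⊢

/-- Every 2-subgroup of the stabiliser is conjugate into the Sylow subgroup inside it. -/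
theorem exists_conj_le_U {P : Subgroup SLFive} (hP : IsPGroup 2 P) (hPX : P ≤ X) :
    ∃ x ∈ X, ∀ p ∈ P, x * p * x⁻¹ ∈ U := by
  have : Fact (Nat.Prime 2) := ⟨Nat.prime_two⟩
  have hUX : U ≤ X := U_le_centralizer.trans centralizer_le_X
  have hfac : ∀ n : ℕ, 1024 ∣ n → n ∣ 9999360 → n.factorization 2 = 10 := by
    intro n h1 h2
    have hn : n ≠ 0 := fun e => by subst e; norm_num at h2
    have a := (Nat.factorization_le_iff_dvd (by norm_num) hn).2 h1 2
    have b := (Nat.factorization_le_iff_dvd hn (by norm_num)).2 h2 2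
    rw [show (1024 : ℕ) = 2 ^ 10 by norm_num, Nat.Prime.factorization_pow Nat.prime_two] at a
    rw [show (9999360 : ℕ) = 2 ^ 10 * 9765 by norm_num, Nat.factorization_mul (by norm_num) (by norm_num),
      Nat.Prime.factorization_pow Nat.prime_two] at b
    simp [Nat.factorization_eq_zero_of_not_dvd] at a b
    omega
  have hUcard : Nat.card (U.subgroupOf X) = 1024 := by
    rw [Nat.card_congr (subgroupOfEquivOfLe hUX).toEquiv, Cfsg.Agent.S1717.card_U]
  let S : Sylow 2 X := Sylow.ofCard (U.subgroupOf X) (by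
    rw [hUcard, hfac _ (hUcard ▸ card_subgroup_dvd_card _)
      (Cfsg.Agent.S1717.card_SL5 ▸ card_subgroup_dvd_card X)]
    norm_num)
  have hP' : IsPGroup 2 (P.subgroupOf X) :=
    hP.of_equiv (subgroupOfEquivOfLe hPX).symm
  obtain ⟨R, hR⟩ := hP'.exists_le_sylow
  obtain ⟨x, hx⟩ := MulAction.exists_smul_eq X R S
  refine ⟨x, x.2, fun p hp => ?_⟩
  have h1 : x * ⟨p, hPX hp⟩ * x⁻¹ ∈ ((x • R : Sylow 2 X) : Subgroup X) := by
    rw [Sylow.coe_subgroup_smul]
    exact Subgroup.smul_mem_pointwise_smul (⟨p, hPX hp⟩ : X) (MulAut.conj x) _ (hR hp)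
  rw [hx] at h1
  exact h1

end CfsgLib.HeUnique.Stab
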