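import Mathlib.GroupTheory.SemidirectProduct
import Mathlib.GroupTheory.Complement
import Mathlib.Tactic.Group

/-!
Two groups with self-centralising normal subgroups, complemented and with full automisers, are
isomorphic when the normal subgroups are.
-/

set_option autoImplicit false

namespace CfsgLib.HeUnique.Stab

open Subgroup

variable {N : Type*} [Group N]

/-- A complement of a self-centralising normal subgroup with full automiser is its automorphism
group. -/
theorem exists_equiv_mulAut {E K : Subgroup N} [E.Normal] (hK : E.IsComplement' K)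
    (hc : centralizer (E : Set N) = E)
    (hfull : ∀ α : ↥E ≃* ↥E, ∃ n : N, ∀ e : ↥E, (α e : N) = n * e * n⁻¹)
    (hcomm : ∀ a ∈ E, ∀ b ∈ E, a * b = b * a) :
    ∃ σ : ↥K ≃* MulAut ↥E, ∀ (k : ↥K) (e : ↥E), (σ k e : N) = k * e * (k : N)⁻¹ := by
  let φ : ↥K →* MulAut ↥E :=
    (E.normalizerMonoidHom).comp (inclusion (E.normalizer_eq_top ▸ le_top))
  have hφ : ∀ (k : ↥K) (e : ↥E), (φ k e : N) = k * e * (k : N)⁻¹ := fun _ _ => rfl
  refine ⟨MulEquiv.ofBijective φ ⟨?_, fun α => ?_⟩, hφ⟩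
  · rw [← MonoidHom.ker_eq_bot_iff, eq_bot_iff]
    intro k hk
    have hkE : (k : N) ∈ E := by
      rw [← hc]
      refine mem_centralizer_iff.2 fun e he => ?_
      have h1 := hφ k ⟨e, he⟩
      rw [MonoidHom.mem_ker.1 hk] at h1
      exact eq_mul_inv_iff_mul_eq.1 h1
    exact mem_bot.2 (Subtype.ext (Subgroup.disjoint_def.1 hK.disjoint hkE k.2))
  · obtain ⟨n, hn⟩ := hfull α
    obtain ⟨⟨a, k⟩, hak⟩ := hK.2 n
    refine ⟨k, MulEquiv.ext fun e => Subtype.ext ?_⟩
    rw [hφ, hn e, ← (show (a : N) * k = n from hak)]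
    have h1 : (k : N) * e * (k : N)⁻¹ ∈ E := Subgroup.Normal.conj_mem inferInstance _ e.2 _
    calc (k : N) * e * (k : N)⁻¹ = (a : N) * ((k : N) * e * (k : N)⁻¹) * (a : N)⁻¹ := by
          rw [hcomm _ a.2 _ h1, mul_inv_cancel_right]
      _ = (a : N) * k * e * ((a : N) * k)⁻¹ := by group

variable {M : Type*} [Group M]

/-- The isomorphism of the groups, extending that of the normal subgroups. -/
theorem nonempty_equiv {E K : Subgroup N} [E.Normal] {F L : Subgroup M} [F.Normal]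
    (hK : E.IsComplement' K) (hL : F.IsComplement' L)
    (hcE : centralizer (E : Set N) = E) (hcF : centralizer (F : Set M) = F)
    (hfullN : ∀ α : ↥E ≃* ↥E, ∃ n : N, ∀ e : ↥E, (α e : N) = n * e * n⁻¹)
    (hfullM : ∀ α : ↥F ≃* ↥F, ∃ m : M, ∀ f : ↥F, (α f : M) = m * f * m⁻¹)
    (hE : ∀ a ∈ E, ∀ b ∈ E, a * b = b * a) (hF : ∀ a ∈ F, ∀ b ∈ F, a * b = b * a)
    (c : ↥E ≃* ↥F) : ∃ ψ : N ≃* M, ∀ e : ↥E, ψ e = c e := by
  obtain ⟨σ, hσ⟩ := exists_equiv_mulAut hK hcE hfullN hE
  obtain ⟨τ, hτ⟩ := exists_equiv_mulAut hL hcF hfullM hF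
  let fg : ↥K ≃* ↥L := (σ.trans (MulAut.congr c)).trans τ.symm
  have hfg : ∀ k : ↥K, (σ k).trans c = c.trans (τ (fg k)) := fun k => by
    refine MulEquiv.ext fun e => ?_
    simp [fg, MulEquiv.trans_apply, MulAut.congr]
  let sN := SemidirectProduct.mulEquivSubgroup hK
  let sM := SemidirectProduct.mulEquivSubgroup hL
  have hσ' : ∀ k : ↥K, (E.normalizerMonoidHom.comp (inclusion (E.normalizer_eq_top ▸ le_top))) k = σ k :=
    fun k => MulEquiv.ext fun e => Subtype.ext (hσ k e).symm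
  have hτ' : ∀ k : ↥L, (F.normalizerMonoidHom.comp (inclusion (F.normalizer_eq_top ▸ le_top))) k = τ k :=
    fun k => MulEquiv.ext fun e => Subtype.ext (hτ k e).symm
  refine ⟨sN.symm.trans ((SemidirectProduct.congr c fg fun k => ?_).trans sM), fun e => ?_⟩
  · rw [hσ', hτ']; exact hfg k
  · have he : sN.symm (e : N) = SemidirectProduct.inl e :=
      sN.symm_apply_eq.2 (by simp [sN])
    simp [MulEquiv.trans_apply, he, sM]

end CfsgLib.HeUnique.Stab
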